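import Mathlib.CategoryTheory.Abelian.GrothendieckCategory.Subobject
import Mathlib.CategoryTheory.Abelian.Subobject
import Mathlib.CategoryTheory.Preadditive.Injective.Basic
import Mathlib.Order.Zorn

/-!
# Indecomposable injective objects are uniform

Any two nonzero subobjects of an indecomposable injective object of a Grothendieck abelian category meet.
-/

set_option autoImplicit false

universe w v u

open CategoryTheory CategoryTheory.Limits

namespace GrothLib.Uniform18

variable {C : Type u} [Category.{v} C] [Abelian C]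

/-- Two maps into an object meet only in zero. -/
def Disj {E A B : C} (a : A ⟶ E) (b : B ⟶ E) : Prop :=
  ∀ ⦃T : C⦄ (x : T ⟶ A) (y : T ⟶ B), x ≫ a = y ≫ b → x = 0

theorem Disj.symm {E A B : C} {a : A ⟶ E} {b : B ⟶ E} [Mono b] (h : Disj a b) : Disj b a :=
  fun T x y e => (cancel_mono b).1 (by rw [e, h y x e.symm, zero_comp, zero_comp])

theorem disj_iff {E A B : C} (a : A ⟶ E) (b : B ⟶ E) [Mono a] [Mono b] :
    Disj a b ↔ Mono (b ≫ cokernel.π a) := by
  constructor
  · intro h
    refine Preadditive.mono_of_cancel_zero _ fun {T} y hy => ?_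
    rw [← Category.assoc] at hy
    obtain ⟨x, hx⟩ := KernelFork.IsLimit.lift' (Abelian.monoIsKernelOfCokernel _ (cokernelIsCokernel a)) _ hy
    have hx' : x ≫ a = y ≫ b := hx
    exact (cancel_mono b).1 (by rw [← hx', h x y hx', zero_comp, zero_comp])
  · intro h T x y e
    have hy : y ≫ b ≫ cokernel.π a = 0 := by rw [← reassoc_of% e, cokernel.condition, comp_zero]
    have hy0 : y = 0 := (cancel_mono (b ≫ cokernel.π a)).1 (by rw [hy, zero_comp])
    exact (cancel_mono a).1 (by rw [e, hy0, zero_comp, zero_comp])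

/-- A wrapper carrying no order or category structure. -/
structure Wrap (α : Type w) : Type w where
  /-- the wrapped element -/
  val : α

variable [IsGrothendieckAbelian.{w} C]

/-- Suprema of chains of subobjects meeting `a` in zero meet `a` in zero. -/
theorem disj_sSup {E A : C} (a : A ⟶ E) [Mono a] (c : Set (Subobject E)) (hc : IsChain (· ≤ ·) c)
    (hne : c.Nonempty) (h : ∀ B ∈ c, Disj a B.arrow) :
    ∃ S : Subobject E, (∀ B ∈ c, B ≤ S) ∧ Disj a S.arrow := by
  haveI : Small.{w} c := small_of_injective Subtype.val_injective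
  let J := Wrap (Shrink.{w} c)
  let σ : c ≃ J := (equivShrink c).trans ⟨Wrap.mk, Wrap.val, fun _ => rfl, fun _ => rfl⟩
  letI : Preorder J := Preorder.lift fun j => (σ.symm j).1
  haveI : Nonempty J := ⟨σ ⟨_, hne.some_mem⟩⟩
  haveI : IsDirectedOrder J := ⟨fun i j => by
    rcases hc.total (σ.symm i).2 (σ.symm j).2 with e | e
    · exact ⟨j, e, le_refl _⟩
    · exact ⟨i, le_refl _, e⟩⟩
  haveI hm : ∀ j : J, Mono ((σ.symm j).1.arrow ≫ cokernel.π a) := fun j =>
    (disj_iff _ _).1 (h _ (σ.symm j).2)
  let F : J ⥤ MonoOver E :=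
    { obj := fun j => MonoOver.mk (σ.symm j).1.arrow
      map := fun {i j} f => MonoOver.homMk (Subobject.ofLE _ _ (leOfHom (X := J) f))
        (Subobject.ofLE_arrow _) }
  let F' : J ⥤ MonoOver (cokernel a) :=
    { obj := fun j => MonoOver.mk ((σ.symm j).1.arrow ≫ cokernel.π a)
      map := fun {i j} f => MonoOver.homMk (Subobject.ofLE _ _ (leOfHom (X := J) f))
        (Subobject.ofLE_arrow_assoc _ _) }
  let K : J ⥤ C := F ⋙ MonoOver.forget _ ⋙ Over.forget _
  let f : colimit K ⟶ E := colimit.desc K (Cocone.mk E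
    { app := fun j => (σ.symm j).1.arrow
      naturality := fun i j k => by
        simp [K, F] })
  have hf : ∀ j, colimit.ι K j ≫ f = (σ.symm j).1.arrow := fun j => by simp [f]
  haveI : Mono f := IsGrothendieckAbelian.mono_of_isColimit_monoOver F (colimit.isColimit K) f hf
  haveI : Mono (f ≫ cokernel.π a) :=
    IsGrothendieckAbelian.mono_of_isColimit_monoOver F' (c := colimit.cocone K) (colimit.isColimit K)
      (f ≫ cokernel.π a) fun j => by
        show colimit.ι K j ≫ f ≫ cokernel.π a = _
        rw [reassoc_of% (hf j)]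
        rfl
  refine ⟨Subobject.mk f, fun B hB => ?_, (disj_iff _ _).2 ?_⟩
  · have := Subobject.le_mk_of_comm (X := B) (f := f)
      (Subobject.ofLE B _ (le_of_eq (by simp : B = (σ.symm (σ ⟨B, hB⟩)).1)) ≫ colimit.ι K (σ ⟨B, hB⟩))
      ((Category.assoc _ _ _).trans ((congrArg (fun k => _ ≫ k) (hf _)).trans (Subobject.ofLE_arrow _)))
    exact this
  · rw [← Subobject.underlyingIso_hom_comp_eq_mk, Category.assoc]
    infer_instance

/-- A subobject is contained in a maximal one meeting `a` in zero. -/
theorem exists_maximal_disj {E A B : C} (a : A ⟶ E) [Mono a] (b : B ⟶ E) [Mono b] (h : Disj a b) :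
    ∃ M : Subobject E, Subobject.mk b ≤ M ∧ Disj a M.arrow ∧
      ∀ M' : Subobject E, M ≤ M' → Disj a M'.arrow → M' ≤ M := by
  have h0 : Subobject.mk b ∈ {M : Subobject E | Disj a M.arrow} := fun T x y e =>
    h x (y ≫ (Subobject.underlyingIso b).hom) (by rw [Category.assoc, Subobject.underlyingIso_hom_comp_eq_mk, e])
  obtain ⟨M, hbM, hM⟩ := zorn_le_nonempty₀ {M : Subobject E | Disj a M.arrow} (fun c hcs hc y hy => by
    obtain ⟨S, hS, hS'⟩ := disj_sSup.{w} a c hc ⟨y, hy⟩ fun B hB => hcs hB
    exact ⟨S, hS', hS⟩) (Subobject.mk b) h0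
  exact ⟨M, hbM, hM.prop, fun M' hle hd => hM.2 hd hle⟩

/-- An indecomposable injective object is uniform. -/
theorem exists_meet {E : C} [Injective E]
    (hind : ∀ (A B : C), Nonempty (E ≅ A ⊞ B) → IsZero A ∨ IsZero B) {A B : C} (a : A ⟶ E) (b : B ⟶ E)
    [Mono a] [Mono b] (hA : ¬ IsZero A) (hB : ¬ IsZero B) :
    ∃ (T : C) (x : T ⟶ A) (y : T ⟶ B), x ≫ a = y ≫ b ∧ x ≠ 0 := by
  by_contra hcon
  have hab : Disj a b := fun T x y e => by
    by_contra hx
    exact hcon ⟨T, x, y, e, hx⟩
  obtain ⟨M, hbM, hM, hMmax⟩ := exists_maximal_disj.{w} a b hab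
  obtain ⟨N, haN, hN, hNmax⟩ := exists_maximal_disj.{w} M.arrow a hM.symm
  have hMN : Disj N.arrow M.arrow := hN.symm
  have hMmax' : ∀ M' : Subobject E, M ≤ M' → Disj N.arrow M'.arrow → M' ≤ M := fun M' hle hd =>
    hMmax M' hle fun T x y e => by
      have := hd (x ≫ (Subobject.underlyingIso a).inv ≫ Subobject.ofLE _ _ haN) y (by simpa using e)
      refine (cancel_mono a).1 ?_
      have h2 := congrArg (fun k => k ≫ N.arrow) this
      simpa using h2
  haveI : Mono (biprod.desc N.arrow M.arrow) := Preadditive.mono_of_cancel_zero _ fun {T} z hz => by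
    rw [biprod.desc_eq, Preadditive.comp_add] at hz
    have h1 : z ≫ biprod.fst = 0 := hMN _ (-(z ≫ biprod.snd)) (by
      rw [Preadditive.neg_comp, Category.assoc, Category.assoc, eq_neg_iff_add_eq_zero, hz])
    apply biprod.hom_ext
    · rw [h1, zero_comp]
    · rw [reassoc_of% h1, zero_comp, zero_add, ← Category.assoc] at hz
      rw [zero_comp]
      exact (cancel_mono M.arrow).1 (by rw [hz, zero_comp])
  let e : E ⟶ E := Injective.factorThru (biprod.desc N.arrow (0 : (M : C) ⟶ E)) (biprod.desc N.arrow M.arrow)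
  have he : biprod.desc N.arrow M.arrow ≫ e = biprod.desc N.arrow 0 := Injective.comp_factorThru _ _
  have heN : N.arrow ≫ e = N.arrow := by simpa using congrArg (fun k => biprod.inl ≫ k) he
  have heM : M.arrow ≫ e = 0 := by simpa using congrArg (fun k => biprod.inr ≫ k) he
  -- the kernel modulo `M` is `M`
  let κ := kernel.ι (e ≫ cokernel.π M.arrow)
  have hκ : Subobject.mk κ ≤ M := by
    refine hMmax' _ ?_ ?_
    · refine Subobject.le_mk_of_comm (kernel.lift _ M.arrow (by rw [reassoc_of% heM, zero_comp])) ?_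
      exact kernel.lift_ι _ _ _
    · intro T x y hxy
      have h1 : x ≫ N.arrow ≫ cokernel.π M.arrow = 0 := by
        rw [← heN, Category.assoc, reassoc_of% hxy, ← Subobject.underlyingIso_hom_comp_eq_mk, Category.assoc,
          kernel.condition, comp_zero, comp_zero]
      haveI := (disj_iff _ _).1 hN
      exact (cancel_mono (N.arrow ≫ cokernel.π M.arrow)).1 (by rw [h1, zero_comp])
  have himd : Disj M.arrow (Abelian.image.ι e) := by
    refine Disj.symm ?_
    intro T x y hxy
    let p := pullback.fst (Abelian.factorThruImage e) x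
    let q := pullback.snd (Abelian.factorThruImage e) x
    have hpe : p ≫ e = q ≫ y ≫ M.arrow := by
      rw [← hxy, ← pullback.condition_assoc, Abelian.image.fac]
    obtain ⟨z, hz⟩ : ∃ z, z ≫ M.arrow = p := by
      refine ⟨kernel.lift (e ≫ cokernel.π M.arrow) p (by rw [reassoc_of% hpe, cokernel.condition, comp_zero,
        comp_zero]) ≫ (Subobject.underlyingIso κ).inv ≫ Subobject.ofLE _ _ hκ, ?_⟩
      simp [κ]
    have h1 : q ≫ x ≫ Abelian.image.ι e = 0 := by
      rw [hxy, ← hpe, ← hz, Category.assoc, heM, comp_zero]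
    haveI : Epi q := inferInstanceAs (Epi (pullback.snd (Abelian.factorThruImage e) x))
    exact (cancel_mono (Abelian.image.ι e)).1 ((cancel_epi q).1 (by rw [h1, zero_comp, comp_zero]))
  have hImN : Subobject.mk (Abelian.image.ι e) ≤ N := by
    refine hNmax _ (Subobject.le_mk_of_comm (N.arrow ≫ Abelian.factorThruImage e) ?_) ?_
    · rw [Category.assoc, Abelian.image.fac, heN]
    · intro T x y hxy
      rw [← Subobject.underlyingIso_hom_comp_eq_mk, ← Category.assoc] at hxy
      exact himd x _ hxy
  let r : E ⟶ (N : C) := Abelian.factorThruImage e ≫ (Subobject.underlyingIso _).inv ≫ Subobject.ofLE _ _ hImN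
  have hr : r ≫ N.arrow = e := by simp [r]
  have hNr : N.arrow ≫ r = 𝟙 _ := (cancel_mono N.arrow).1 (by rw [Category.assoc, hr, heN, Category.id_comp])
  have hMr : M.arrow ≫ r = 0 := (cancel_mono N.arrow).1 (by rw [Category.assoc, hr, heM, zero_comp])
  let iso : E ≅ (N : C) ⊞ kernel r :=
    { hom := biprod.lift r (kernel.lift r (𝟙 E - r ≫ N.arrow) (by simp [hNr]))
      inv := biprod.desc N.arrow (kernel.ι r)
      hom_inv_id := by simp
      inv_hom_id := by
        apply biprod.hom_ext'
        · apply biprod.hom_ext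
          · simp [hNr]
          · rw [← cancel_mono (kernel.ι r)]; simp [reassoc_of% hNr]
        · apply biprod.hom_ext
          · simp
          · rw [← cancel_mono (kernel.ι r)]; simp }
  rcases hind _ _ ⟨iso⟩ with hz | hz
  · exact hA (IsZero.of_mono ((Subobject.underlyingIso a).inv ≫ Subobject.ofLE _ _ haN) hz)
  · exact hB (IsZero.of_mono ((Subobject.underlyingIso b).inv ≫ Subobject.ofLE _ _ hbM ≫
      kernel.lift r M.arrow hMr) hz)

end GrothLib.Uniform18
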